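import Groth.Agent.SecMulLib.Data
import Groth.Agent.CurveLib.TensorExact
import Groth.Agent.CurveLib.CurveVanish
import Groth.Agent.CurveLib.MaxSections

/-!
# Surjectivity of multiplication maps from vanishing
-/

set_option autoImplicit false
set_option backward.isDefEq.respectTransparency false
set_option backward.isDefEq.respectTransparency.types false
set_option linter.style.haveILetI false

universe u

open CategoryTheory CategoryTheory.Limits AlgebraicGeometry TopologicalSpace Opposite MonoidalCategory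
open Groth.Agent.PullbackMod Groth.Agent.DCohLib Groth.Agent.ModTensor Groth.Agent.CurveLib
open scoped TensorProduct

noncomputable section

namespace Groth.Agent.MultSurjLib

variable {X : Scheme.{u}}

theorem comm_pairS (M N : X.Modules) {U : X.Opens} (m : Γ(M, U)) (n : Γ(N, U)) :
    (AmpleLib.comm M N).hom.app U (pairS M N m n) = pairS N M n m :=
  (congr(($(shUnit_naturality X.sheaf (β_ (pre X.sheaf M) (pre X.sheaf N)).hom)).app (op U)
    (m ⊗ₜ[Γ(X, U)] n : Γ(M, U) ⊗[Γ(X, U)] Γ(N, U)))).symm

/-- Every section of `O ⊗ A` is a pure tensor. -/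
theorem exists_pairS_one (A : X.Modules) (z : Γ(tmod (Coh.structureModule X) A, (⊤ : X.Opens))) :
    ∃ a : Γ(A, (⊤ : X.Opens)), z = pairS (Coh.structureModule X) A (1 : Γ(X, ⊤)) a := by
  let σ : Γ(Coh.structureModule X, (⊤ : X.Opens)) := (1 : Γ(X, ⊤))
  have hid : DCohLib.secHom (Coh.structureModule X) σ = 𝟙 _ := DCohLib.hom_unit_ext (AmpleLib.sec_secHom σ)
  haveI : IsIso (SecMulLib.twSec σ A) := by
    show IsIso (((tensorUnitRight X.sheaf).app A).inv ≫
      ((DCoh.tensorBi (X := X)).obj A).map (DCohLib.secHom (Coh.structureModule X) σ))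
    rw [hid, CategoryTheory.Functor.map_id]
    infer_instance
  let e := asIso (SecMulLib.twSec σ A) ≪≫ AmpleLib.comm A (Coh.structureModule X)
  obtain ⟨a, ha⟩ := (ConcreteCategory.bijective_of_isIso (e.hom.app (⊤ : X.Opens))).2 z
  refine ⟨a, ha.symm.trans ?_⟩
  show (AmpleLib.comm A (Coh.structureModule X)).hom.app ⊤ ((SecMulLib.twSec σ A).app ⊤ a) = _
  rw [SecMulLib.secTw_app_top]
  exact comm_pairS A (Coh.structureModule X) a σ

theorem surjective_toSheafify {L A : X.Modules}
    (h : ∀ z : Γ(tmod L A, (⊤ : X.Opens)), z ∈ AddSubgroup.closure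
      (Set.range fun p : Γ(L, (⊤ : X.Opens)) × Γ(A, (⊤ : X.Opens)) => pairS L A p.1 p.2)) :
    Function.Surjective
      ((toSheafify (Opens.grothendieckTopology X) (CohB1.tensorPre L A).presheaf).app (op ⊤)) := by
  intro z
  have hz := h z
  induction hz using AddSubgroup.closure_induction with
  | mem z hz =>
    obtain ⟨⟨a, b⟩, rfl⟩ := hz
    exact ⟨a ⊗ₜ b, rfl⟩
  | zero => exact ⟨0, map_zero _⟩
  | add a b _ _ ha hb =>
    obtain ⟨a', ha'⟩ := ha
    obtain ⟨b', hb'⟩ := hb
    exact ⟨a' + b', (map_add _ _ _).trans (congrArg₂ (· + ·) ha' hb')⟩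
  | neg a _ ha =>
    obtain ⟨a', ha'⟩ := ha
    exact ⟨-a', (map_neg _ _).trans (congrArg Neg.neg ha')⟩

/-- A sequence with invertible quotient stays exact after tensoring. -/
theorem shortExact_tensR_invertible {S : ShortComplex X.Modules} (hS : S.ShortExact)
    (h3 : PicF.IsInvertible S.X₃) (E : X.Modules) : (S.map (tensR E)).ShortExact := by
  haveI := hS.epi_g
  haveI := hS.mono_f
  refine { exact := hS.exact.map_of_epi_of_preservesCokernel _ hS.epi_g inferInstance
           mono_f := (mono_iff_stalk _).2 fun x => ?_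
           epi_g := (inferInstance : Epi ((tensR E).map S.g)) }
  obtain ⟨e, he⟩ := ParaFLib.exists_stalk_gen h3 x
  obtain ⟨t, ht⟩ := (epi_iff_stalk S.g).1 inferInstance x e
  let c := LinearEquiv.ofBijective (LinearMap.toSpanSingleton (X.presheaf.stalk x) _ e) he
  let π : S.X₂.presheaf.stalk x →ₗ[X.presheaf.stalk x] S.X₂.presheaf.stalk x :=
    LinearMap.id - (LinearMap.toSpanSingleton (X.presheaf.stalk x) _ t).comp
      (c.symm.toLinearMap.comp (stalkLin S.g x))
  have hf := (mono_iff_stalk S.f).1 inferInstance x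
  have hex := exact_stalkLin S hS.exact x
  have hπ : ∀ b, π b ∈ LinearMap.range (stalkLin S.f x) := fun b => (hex _).1 (by
    show stalkLin S.g x (b - c.symm (stalkLin S.g x b) • t) = 0
    rw [map_sub, map_smul, ht, sub_eq_zero]
    exact (c.apply_symm_apply _).symm)
  let r := (LinearEquiv.ofInjective (stalkLin S.f x) hf).symm.toLinearMap.comp (π.codRestrict _ hπ)
  have hr : r.comp (stalkLin S.f x) = LinearMap.id := LinearMap.ext fun a => by
    refine (LinearEquiv.ofInjective (stalkLin S.f x) hf).injective ((LinearEquiv.apply_symm_apply _ _).trans ?_)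
    refine Subtype.ext ?_
    show stalkLin S.f x a - c.symm (stalkLin S.g x (stalkLin S.f x a)) • t = stalkLin S.f x a
    rw [(hex _).2 ⟨a, rfl⟩, map_zero, zero_smul, sub_zero]
  refine Function.Injective.of_comp_right ?_ (stalkTensor x S.X₁ E).surjective
  have : (stalkLin ((tensR E).map S.f) x ∘ stalkTensor x S.X₁ E) =
      stalkTensor x S.X₂ E ∘ (stalkLin S.f x).rTensor (E.presheaf.stalk x) :=
    funext (stalkTensor_natural_left x S.f)
  refine this ▸ (stalkTensor x S.X₂ E).injective.comp fun a b hab => ?_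
  have h2 := congrArg (r.rTensor (E.presheaf.stalk x)) hab
  rwa [← LinearMap.rTensor_comp_apply, ← LinearMap.rTensor_comp_apply, hr, LinearMap.rTensor_id] at h2

theorem surjective_sections (k : Type u) [Field k] [X.Over (Spec (CommRingCat.of k))] {S : ShortComplex X.Modules}
    (hS : S.ShortExact) (h1 : Subsingleton (Coh.HH X S.X₁ 1)) : Function.Surjective (S.g.app (⊤ : X.Opens)) := by
  intro z
  obtain ⟨c, hc⟩ : (secOf S.X₃).symm z ∈ LinearMap.range (CurveLib.hMap (k := k) S.g 0) := by
    rw [range_hMap_g hS]; exact Subsingleton.elim (α := Coh.HH X S.X₁ 1) _ _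
  exact ⟨secOf S.X₂ c, by rw [← secOf_hMap (k := k), hc, AddEquiv.apply_symm_apply]⟩

variable {k : Type u} [Field k] [X.Over (Spec (CommRingCat.of k))]

/-- The index set of a free module with finite-dimensional sections is finite. -/
theorem finite_of_free {J : Type u} (i : J → (Coh.structureModule X ⟶ (SheafOfModules.free J : X.Modules)))
    (π : J → ((SheafOfModules.free J : X.Modules) ⟶ Coh.structureModule X))
    (hii : ∀ j, i j ≫ π j = 𝟙 _) (hij : ∀ j l, j ≠ l → i j ≫ π l = 0)
    [Nonempty X] [Module.Finite k (Coh.HH X (SheafOfModules.free J : X.Modules) 0)] : Finite J := by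
  let c1 : Coh.HH X (Coh.structureModule X) 0 := (secOf (Coh.structureModule X)).symm (1 : Γ(X, ⊤))
  have hc1 : c1 ≠ 0 := fun h => by
    haveI : Nonempty (⊤ : X.Opens) := ⟨⟨Classical.arbitrary X, trivial⟩⟩
    exact one_ne_zero (α := Γ(X, ⊤)) ((secOf (Coh.structureModule X)).symm.injective (h.trans (map_zero _).symm))
  have key : ∀ j l, CurveLib.hMap (k := k) (π l) 0 (CurveLib.hMap (k := k) (i j) 0 c1) =
      (secOf (Coh.structureModule X)).symm ((i j ≫ π l).app (⊤ : X.Opens) (1 : Γ(X, ⊤))) := fun j l =>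
    (secOf (Coh.structureModule X)).injective (by
      rw [AddEquiv.apply_symm_apply, secOf_hMap, secOf_hMap, AddEquiv.apply_symm_apply]; rfl)
  have hi : LinearIndependent k fun j => CurveLib.hMap (k := k) (i j) 0 c1 := by
    refine linearIndependent_iff'.2 fun s g hg l hl => ?_
    have h2 := congrArg (CurveLib.hMap (k := k) (π l) 0) hg
    rw [map_sum, map_zero, Finset.sum_eq_single_of_mem l hl fun j _ hj => ?_] at h2
    · rw [map_smul, key, hii] at h2
      exact (smul_eq_zero.1 h2).resolve_right hc1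
    · rw [map_smul, key, hij j l hj, Scheme.Modules.Hom.zero_app]
      exact (congrArg (g j • ·) (map_zero _)).trans (smul_zero _)
  exact hi.finite

/-- Sections of a free module of finite rank tensor `A`. -/
theorem free_tensor_sum {J : Type u} [Fintype J]
    (i : J → (Coh.structureModule X ⟶ (SheafOfModules.free J : X.Modules)))
    (π : J → ((SheafOfModules.free J : X.Modules) ⟶ Coh.structureModule X))
    (htot : ∑ j, π j ≫ i j = 𝟙 _) (A : X.Modules)
    (w : Γ(tmod (SheafOfModules.free J : X.Modules) A, (⊤ : X.Opens))) :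
    ∃ a : J → Γ(A, (⊤ : X.Opens)), w = ∑ j, pairS _ A ((i j).app ⊤ (1 : Γ(X, ⊤))) (a j) := by
  choose a ha using fun j => exists_pairS_one A (((tensR A).map (π j)).app ⊤ w)
  refine ⟨a, ?_⟩
  have h1 : w = ((tensR A).map (∑ j, π j ≫ i j)).app ⊤ w := by
    rw [htot, CategoryTheory.Functor.map_id]; rfl
  rw [h1, Functor.map_sum]
  refine (map_sum (AddMonoidHom.mk' (fun φ : (tensR A).obj (SheafOfModules.free J : X.Modules) ⟶
    (tensR A).obj (SheafOfModules.free J : X.Modules) => φ.app ⊤ w) fun _ _ => rfl) _ _).trans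
    (Finset.sum_congr rfl fun j _ => ?_)
  show ((tensR A).map (π j ≫ i j)).app ⊤ w = _
  rw [Functor.map_comp]
  exact (congrArg (((tensR A).map (i j)).app ⊤) (ha j)).trans (tensorBi_app_pairS_left (i j) _ _)

end Groth.Agent.MultSurjLib
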