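import Groth.Agent.MultSurjLib.Basic
import Groth.Agent.DCohLib.PerfLocFree

/-!
# Surjectivity of multiplication maps from a divisor
-/

set_option autoImplicit false
set_option backward.isDefEq.respectTransparency false
set_option backward.isDefEq.respectTransparency.types false
set_option linter.style.haveILetI false

universe u

open CategoryTheory CategoryTheory.Limits AlgebraicGeometry TopologicalSpace Opposite
open Groth.Agent.PullbackMod Groth.Agent.DCohLib Groth.Agent.CurveLib
open scoped TensorProduct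

noncomputable section

namespace Groth.Agent.MultSurjLib

theorem injective_rTensor_mk {R : Type*} [CommRing R] {M D N : Type*} [AddCommGroup M] [Module R M]
    [AddCommGroup D] [Module R D] [AddCommGroup N] [Module R N] (d : D)
    (hd : Function.Surjective fun r : R => r • d) (hN : ∀ a : R, a • d = 0 → ∀ n : N, a • n = 0) :
    Function.Injective (((TensorProduct.mk R M D).flip d).rTensor N) := by
  let f : M →ₗ[R] M ⊗[R] D := (TensorProduct.mk R M D).flip d
  let g := LinearMap.toSpanSingleton R D d
  have hker : ∀ m ∈ LinearMap.ker f, m ∈ LinearMap.ker g • (⊤ : Submodule R M) := by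
    intro m hm
    obtain ⟨w, hw⟩ := (lTensor_exact M (LinearMap.exact_subtype_ker_map g) hd (m ⊗ₜ[R] (1 : R))).1 (by
      rw [LinearMap.lTensor_tmul]
      show m ⊗ₜ[R] ((1 : R) • d) = 0
      rw [one_smul]
      exact hm)
    have h0 : ∀ w, TensorProduct.rid R M ((LinearMap.ker g).subtype.lTensor M w) ∈
        LinearMap.ker g • (⊤ : Submodule R M) := fun w => by
      induction w using TensorProduct.induction_on with
      | zero => rw [map_zero, map_zero]; exact Submodule.zero_mem _
      | tmul a b =>
        rw [LinearMap.lTensor_tmul, TensorProduct.rid_tmul]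
        exact Submodule.smul_mem_smul b.2 trivial
      | add p q hp hq => rw [map_add, map_add]; exact Submodule.add_mem _ hp hq
    have h2 := h0 w
    rwa [hw, TensorProduct.rid_tmul, one_smul] at h2
  have hf : Function.Surjective f := by
    intro t
    induction t using TensorProduct.induction_on with
    | zero => exact ⟨0, map_zero _⟩
    | tmul a b =>
      obtain ⟨r, rfl⟩ := hd b
      exact ⟨r • a, (TensorProduct.smul_tmul r a d)⟩
    | add p q hp hq =>
      obtain ⟨⟨a, rfl⟩, b, rfl⟩ := And.intro hp hq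
      exact ⟨a + b, map_add _ _ _⟩
  refine (injective_iff_map_eq_zero _).2 fun z hz => ?_
  obtain ⟨w, rfl⟩ := (rTensor_exact N (LinearMap.exact_subtype_ker_map f) hf z).1 hz
  induction w using TensorProduct.induction_on with
  | zero => exact map_zero _
  | tmul a n =>
    rw [LinearMap.rTensor_tmul]
    have key : ∀ m ∈ LinearMap.ker g • (⊤ : Submodule R M), m ⊗ₜ[R] n = 0 := fun m hm =>
      Submodule.smul_induction_on hm
        (fun r hr m _ => by rw [TensorProduct.smul_tmul, hN r hr n, TensorProduct.tmul_zero])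
        fun p q hp hq => by rw [TensorProduct.add_tmul, hp, hq, add_zero]
    exact key _ (hker _ a.2)
  | add p q hp hq =>
    rw [map_add, hp (by
      rw [← LinearMap.comp_apply, ← LinearMap.rTensor_comp, LinearMap.comp_ker_subtype, LinearMap.rTensor_zero]; rfl),
      hq (by rw [← LinearMap.comp_apply, ← LinearMap.rTensor_comp, LinearMap.comp_ker_subtype, LinearMap.rTensor_zero]; rfl),
      add_zero]

variable {X : Scheme.{u}}

/-- `(E ⊗ -)`. -/
abbrev tensL (E : X.Modules) : X.Modules ⥤ X.Modules := (DCoh.tensorBi (X := X)).obj E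

instance additive_tensL (E : X.Modules) : (tensL E).Additive := ModTensor.additive_tensorBi_obj X.sheaf E

theorem shortExact_tensL {S : ShortComplex X.Modules} (hS : S.ShortExact) {E : X.Modules}
    (hE : ∀ x, Module.Flat (X.presheaf.stalk x) (E.presheaf.stalk x)) : (S.map (tensL E)).ShortExact := by
  haveI := hS.epi_g
  haveI := hS.mono_f
  haveI : PreservesColimitsOfSize.{u, u} (tensL E) := ModTensor.preservesColimitsOfSize_tensorBi_obj X.sheaf E
  refine { exact := hS.exact.map_of_epi_of_preservesCokernel _ hS.epi_g inferInstance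
           mono_f := (mono_iff_stalk _).2 fun x => ?_
           epi_g := (inferInstance : Epi ((tensL E).map S.g)) }
  haveI := hE x
  refine Function.Injective.of_comp_right ?_ (stalkTensor x E S.X₁).surjective
  have : (stalkLin ((tensL E).map S.f) x ∘ stalkTensor x E S.X₁) =
      stalkTensor x E S.X₂ ∘ (stalkLin S.f x).lTensor (E.presheaf.stalk x) :=
    funext (stalkTensor_natural_right x S.f)
  exact this ▸ (stalkTensor x E S.X₂).injective.comp
    (Module.Flat.lTensor_preserves_injective_linearMap (stalkLin S.f x) ((mono_iff_stalk S.f).1 inferInstance x))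

theorem flat_stalk_of_flf {E : X.Modules} (h : FlatMod.IsFinLocFree E) (x : X) :
    Module.Flat (X.presheaf.stalk x) (E.presheaf.stalk x) := by
  haveI := (free_finite_stalk_of_flf h x).1
  infer_instance

theorem twSec_app (M : X.Modules) {N : X.Modules} (σ : Γ(N, (⊤ : X.Opens))) (m : Γ(M, (⊤ : X.Opens))) :
    (SecMulLib.twSec σ M).app ⊤ m = pairS M N m σ :=
  (SecMulLib.secTw_app_top σ M m).trans rfl

variable (X) in
/-- The section one of the structure module. -/
abbrev oneS : Γ(Coh.structureModule X, (⊤ : X.Opens)) := (1 : Γ(X, ⊤))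

instance isIso_twSec_one (A : X.Modules) : IsIso (SecMulLib.twSec (oneS X) A) := by
  show IsIso (((ModTensor.tensorUnitRight X.sheaf).app A).inv ≫
    ((DCoh.tensorBi (X := X)).obj A).map (DCohLib.secHom (Coh.structureModule X) (oneS X)))
  rw [show DCohLib.secHom (Coh.structureModule X) (oneS X) = 𝟙 _ from DCohLib.hom_unit_ext (AmpleLib.sec_secHom _),
    CategoryTheory.Functor.map_id]
  infer_instance

theorem app_injective_of_stalk {A B : X.Modules} (φ : A ⟶ B) (h : ∀ x, Function.Injective (stalkLin φ x))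
    {z : Γ(A, (⊤ : X.Opens))} (hz : φ.app ⊤ z = 0) : z = 0 :=
  TopCat.Presheaf.section_ext (⟨A.presheaf, A.isSheaf⟩ : TopCat.Sheaf Ab X) ⊤ z 0 fun x _ => by
    refine Eq.trans (h x ?_) (map_zero _).symm
    exact (stalkLin_germ φ (U := ⊤) x trivial z).trans ((congrArg (B.presheaf.germ ⊤ x trivial) hz).trans
      ((map_zero _).trans (map_zero _).symm))

/-- Multiplication surjective on a divisor is surjective. -/
theorem mult_surjective_of_restriction (k : Type u) [Field k] [X.Over (Spec (CommRingCat.of k))] {I D : X.Modules} (ι : I ⟶ Coh.structureModule X)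
    (q : Coh.structureModule X ⟶ D) (w : ι ≫ q = 0) (hS : (ShortComplex.mk ι q w).ShortExact)
    {E L : X.Modules} (hE : FlatMod.IsFinLocFree E) (hL : FlatMod.IsFinLocFree L)
    (δ : tmod L I ≅ Coh.structureModule X)
    (hreg : Subsingleton (Coh.HH X (Coh.structureModule X) 1)) (h1 : Subsingleton (Coh.HH X (tmod E I) 1))
    (hD : Function.Surjective ((toSheafify (Opens.grothendieckTopology X)
      (CohB1.tensorPre (tmod E D) (tmod L D)).presheaf).app (op ⊤))) :
    Function.Surjective ((toSheafify (Opens.grothendieckTopology X) (CohB1.tensorPre E L).presheaf).app (op ⊤)) := by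
  have hqe : Epi q := hS.epi_g
  let d1 : Γ(D, (⊤ : X.Opens)) := q.app ⊤ (oneS X)
  let rE := SecMulLib.twSec d1 E
  let rL := SecMulLib.twSec d1 L
  have hfac : ∀ (M : X.Modules) (m : Γ(M, (⊤ : X.Opens))),
      ((tensL M).map q).app ⊤ ((SecMulLib.twSec (oneS X) M).app ⊤ m) = (SecMulLib.twSec d1 M).app ⊤ m := fun M m => by
    rw [twSec_app, twSec_app]
    exact tensorBi_app_pairS_right q m (oneS X)
  have hlift : ∀ (M : X.Modules), FlatMod.IsFinLocFree M → Subsingleton (Coh.HH X (tmod M I) 1) →
      Function.Surjective ((SecMulLib.twSec d1 M).app (⊤ : X.Opens)) := by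
    intro M hM h1M t
    obtain ⟨s, hs⟩ := surjective_sections k (shortExact_tensL hS (flat_stalk_of_flf hM)) h1M t
    obtain ⟨m, rfl⟩ := (ConcreteCategory.bijective_of_isIso ((SecMulLib.twSec (oneS X) M).app (⊤ : X.Opens))).2 s
    exact ⟨m, (hfac M m).symm.trans hs⟩
  have h1L : Subsingleton (Coh.HH X (tmod L I) 1) :=
    (CurveLib.hMap_bijective_iso (k := k) δ 1).1.subsingleton
  refine surjective_toSheafify fun z => ?_
  let C := AddSubgroup.closure (Set.range fun p : Γ(E, (⊤ : X.Opens)) × Γ(L, (⊤ : X.Opens)) => pairS E L p.1 p.2)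
  let Φ : tmod E L ⟶ tmod (tmod E D) (tmod L D) :=
    (tensL E).map rL ≫ ((DCoh.tensorBi (X := X)).map rE).app (tmod L D)
  have hΦ : ∀ e l, Φ.app ⊤ (pairS E L e l) = pairS (tmod E D) (tmod L D) (rE.app ⊤ e) (rL.app ⊤ l) := fun e l => by
    show (((DCoh.tensorBi (X := X)).map rE).app (tmod L D)).app ⊤ (((tensL E).map rL).app ⊤ (pairS E L e l)) = _
    rw [tensorBi_app_pairS_right]
    exact tensorBi_app_pairS_left rE e _
  obtain ⟨w0, hw0, hzw⟩ : ∃ w0 ∈ C, Φ.app ⊤ w0 = Φ.app ⊤ z := by
    obtain ⟨t, ht⟩ := hD (Φ.app ⊤ z)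
    rw [← ht]
    clear ht
    induction t using TensorProduct.induction_on with
    | zero => exact ⟨0, zero_mem _, (map_zero _).trans (map_zero _).symm⟩
    | tmul a b =>
      obtain ⟨e, rfl⟩ := hlift E hE h1 a
      obtain ⟨l, rfl⟩ := hlift L hL h1L b
      exact ⟨_, AddSubgroup.subset_closure ⟨(e, l), rfl⟩, hΦ e l⟩
    | add p r hp hr =>
      obtain ⟨⟨a, ha, ha'⟩, b, hb, hb'⟩ := And.intro hp hr
      exact ⟨a + b, add_mem ha hb, (map_add _ _ _).trans ((congrArg₂ (· + ·) ha' hb').trans (map_add _ _ _).symm)⟩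
  suffices h : ∀ d, Φ.app ⊤ d = 0 → d ∈ C by
    have := h (z - w0) (by rw [map_sub, hzw, sub_self])
    simpa using add_mem this hw0
  intro d hd
  have hd1 : ((tensL E).map rL).app ⊤ d = 0 := by
    refine app_injective_of_stalk (((DCoh.tensorBi (X := X)).map rE).app (tmod L D)) (fun x => ?_) hd
    refine Function.Injective.of_comp_right ?_ (stalkTensor x E (tmod L D)).surjective
    rw [show (stalkLin (((DCoh.tensorBi (X := X)).map rE).app (tmod L D)) x ∘ stalkTensor x E (tmod L D)) =
      stalkTensor x (tmod E D) (tmod L D) ∘ (stalkLin rE x).rTensor _ from funext (stalkTensor_natural_left x rE)]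
    refine (stalkTensor x (tmod E D) (tmod L D)).injective.comp ?_
    let dx := D.presheaf.germ ⊤ x trivial d1
    have hrE : stalkLin rE x = (stalkTensor x E D).toLinearMap.comp
        ((TensorProduct.mk (X.presheaf.stalk x) _ _).flip dx) :=
      LinearMap.ext fun m => SecMulLib.stalkLin_secTw d1 E x m
    rw [hrE, LinearMap.rTensor_comp]
    refine ((stalkTensor x E D).rTensor _).injective.comp ?_
    have hgen : ∀ v, ∃ r : X.presheaf.stalk x, r • dx = v := fun v => by
      obtain ⟨o, rfl⟩ := (epi_iff_stalk q).1 hqe x v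
      obtain ⟨r, rfl⟩ := (ParaFLib.bijective_oneG x).2 o
      exact ⟨r, by rw [map_smul]; exact congrArg (r • ·) (stalkLin_germ q (U := ⊤) x trivial _).symm⟩
    refine injective_rTensor_mk dx hgen fun a ha n => ?_
    obtain ⟨c, rfl⟩ := (stalkTensor x L D).surjective n
    rw [← map_smul]
    suffices h0 : a • c = 0 by rw [h0, map_zero]
    induction c using TensorProduct.induction_on with
    | zero => exact smul_zero _
    | tmul l v =>
      obtain ⟨r, rfl⟩ := hgen v
      rw [← TensorProduct.tmul_smul, smul_comm, ha, smul_zero, TensorProduct.tmul_zero]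
    | add p q hp hq => rw [smul_add, hp, hq, add_zero]
  have hTL := shortExact_tensL hS (flat_stalk_of_flf hL)
  have hT := shortExact_tensL hTL (flat_stalk_of_flf hE)
  let T : ShortComplex X.Modules :=
    (((ShortComplex.mk ι q w).map (tensL L)).map (tensL E))
  let u1 := (tensL E).map (SecMulLib.twSec (oneS X) L)
  have hd2 : T.g.app ⊤ (u1.app ⊤ d) = 0 := by
    refine Eq.trans ?_ hd1
    show (u1 ≫ (tensL E).map ((tensL L).map q)).app ⊤ d = _
    rw [← Functor.map_comp]
    suffices hq : SecMulLib.twSec (oneS X) L ≫ (tensL L).map q = rL by rw [hq]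
    refine hom_ext_stalk fun x => LinearMap.ext fun m => ?_
    rw [stalkLin_comp, LinearMap.comp_apply, SecMulLib.stalkLin_secTw, SecMulLib.stalkLin_secTw]
    refine (stalkTensor_natural_right x q _).trans ?_
    rw [LinearMap.lTensor_tmul]
    exact congrArg (fun o => stalkTensor x L D (m ⊗ₜ o)) (stalkLin_germ q (U := ⊤) x trivial _)
  obtain ⟨c, hc⟩ : (secOf T.X₂).symm (u1.app ⊤ d) ∈ LinearMap.range (CurveLib.hMap (k := k) T.f 0) := by
    rw [range_hMap_f hT]
    exact LinearMap.mem_ker.2 ((secOf T.X₃).injective (by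
      rw [map_zero, secOf_hMap, AddEquiv.apply_symm_apply]; exact hd2))
  have hc' : u1.app ⊤ d = T.f.app ⊤ (secOf T.X₁ c) := by
    rw [← secOf_hMap (k := k), hc, AddEquiv.apply_symm_apply]
  obtain ⟨e, t, ht⟩ : ∃ e t, secOf T.X₁ c = pairS E (tmod L I) e t := by
    obtain ⟨e, he⟩ := (ConcreteCategory.bijective_of_isIso ((SecMulLib.twSec (oneS X) E).app (⊤ : X.Opens))).2
      (((tensL E).map δ.hom).app ⊤ (secOf T.X₁ c))
    obtain ⟨t, ht⟩ := (ConcreteCategory.bijective_of_isIso (δ.hom.app (⊤ : X.Opens))).2 (oneS X)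
    refine ⟨e, t, (ConcreteCategory.bijective_of_isIso (((tensL E).map δ.hom).app (⊤ : X.Opens))).1
      (he.symm.trans ((twSec_app E _ e).trans ?_))⟩
    rw [← ht]
    exact (tensorBi_app_pairS_right δ.hom e t).symm
  obtain ⟨v, hv⟩ := (ConcreteCategory.bijective_of_isIso ((SecMulLib.twSec (oneS X) L).app (⊤ : X.Opens))).2
    (((tensL L).map ι).app ⊤ t)
  have he : d = pairS E L e v := (ConcreteCategory.bijective_of_isIso (u1.app (⊤ : X.Opens))).1 (by
    rw [hc', ht]
    exact (tensorBi_app_pairS_right ((tensL L).map ι) e t).trans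
      ((congrArg (pairS E (tmod L (Coh.structureModule X)) e) hv.symm).trans
        (tensorBi_app_pairS_right (SecMulLib.twSec (oneS X) L) e v).symm))
  exact he ▸ AddSubgroup.subset_closure ⟨(e, v), rfl⟩

end Groth.Agent.MultSurjLib
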